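import Mathlib.RingTheory.AdjoinRoot
import Mathlib.RingTheory.MvPolynomial.Symmetric.Defs
import Mathlib.RingTheory.Polynomial.Vieta
import Mathlib.LinearAlgebra.Basis.SMul
import Mathlib.RingTheory.AlgebraTower

set_option autoImplicit false
universe u

namespace Groth.Agent.Split94

open MvPolynomial

variable {R : Type u} [CommRing R]

/-- The ideal of the universal splitting algebra. -/
noncomputable abbrev splitIdeal (r : ℕ) (a : Fin r → R) : Ideal (MvPolynomial (Fin r) R) :=
  Ideal.span (Set.range fun i : Fin r => esymm (Fin r) R ((i : ℕ) + 1) - C (a i))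

/-- The universal splitting algebra. -/
abbrev Split (r : ℕ) (a : Fin r → R) : Type u := MvPolynomial (Fin r) R ⧸ splitIdeal r a

/-- The polynomial with prescribed elementary symmetric functions. -/
noncomputable def splitPoly (r : ℕ) (a : Fin r → R) : Polynomial R :=
  Polynomial.X ^ r + ∑ i : Fin r, Polynomial.C ((-1) ^ ((i : ℕ) + 1) * a i) * Polynomial.X ^ (r - 1 - (i : ℕ))

theorem splitPoly_coeff (r : ℕ) (a : Fin r → R) (i : Fin r) :
    (splitPoly r a).coeff (r - 1 - (i : ℕ)) = (-1) ^ ((i : ℕ) + 1) * a i := by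
  rw [splitPoly, Polynomial.coeff_add, Polynomial.coeff_X_pow, if_neg (by omega), zero_add, Polynomial.finsetSum_coeff,
    Finset.sum_eq_single i]
  · rw [Polynomial.coeff_C_mul_X_pow, if_pos rfl]
  · intro j _ hj
    rw [Polynomial.coeff_C_mul_X_pow, if_neg (fun h => hj (Fin.ext (by omega)))]
  · simp

theorem splitPoly_monic (r : ℕ) (a : Fin r → R) : (splitPoly r a).Monic := by
  refine Polynomial.monic_X_pow_add ((Polynomial.degree_sum_le _ _).trans_lt ((Finset.sup_lt_iff (WithBot.bot_lt_coe _)).2 fun i _ => ?_))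
  exact (Polynomial.degree_C_mul_X_pow_le _ _).trans_lt (by exact_mod_cast (by omega : r - 1 - (i : ℕ) < r))

theorem splitPoly_natDegree [Nontrivial R] (r : ℕ) (a : Fin r → R) : (splitPoly r a).natDegree = r := by
  rw [splitPoly, Polynomial.natDegree_add_eq_left_of_degree_lt, Polynomial.natDegree_X_pow]
  rw [Polynomial.degree_X_pow]
  refine (Polynomial.degree_sum_le _ _).trans_lt ((Finset.sup_lt_iff (WithBot.bot_lt_coe _)).2 fun i _ => ?_)
  exact (Polynomial.degree_C_mul_X_pow_le _ _).trans_lt (by exact_mod_cast (by omega : r - 1 - (i : ℕ) < r))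

/-- Elementary symmetric values are prescribed iff the product of linear factors is the polynomial. -/
theorem esymm_iff {S : Type u} [CommRing S] [Algebra R S] (r : ℕ) (a : Fin r → R) (s : Fin r → S) :
    (∀ i : Fin r, MvPolynomial.aeval s (esymm (Fin r) R ((i : ℕ) + 1)) = algebraMap R S (a i)) ↔
      ∏ j, (Polynomial.X - Polynomial.C (s j)) = (splitPoly r a).map (algebraMap R S) := by
  rcases subsingleton_or_nontrivial S with hS | hS
  · exact ⟨fun _ => Subsingleton.elim _ _, fun _ _ => Subsingleton.elim _ _⟩
  haveI : Nontrivial R := (algebraMap R S).domain_nontrivial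
  set m := Finset.univ.val.map s with hm
  have hcard : Multiset.card m = r := by simp [hm]
  have hprod : ∏ j, (Polynomial.X - Polynomial.C (s j)) = (m.map fun t => Polynomial.X - Polynomial.C t).prod := by
    rw [Finset.prod_eq_multiset_prod, hm, Multiset.map_map]; rfl
  have hco : ∀ i : Fin r, (∏ j, (Polynomial.X - Polynomial.C (s j))).coeff (r - 1 - (i : ℕ)) =
      (-1) ^ ((i : ℕ) + 1) * MvPolynomial.aeval s (esymm (Fin r) R ((i : ℕ) + 1)) := fun i => by
    rw [hprod, Multiset.prod_X_sub_C_coeff _ (by omega), MvPolynomial.aeval_esymm_eq_multiset_esymm, ← hm, hcard,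
      show r - (r - 1 - (i : ℕ)) = (i : ℕ) + 1 by omega]
  constructor
  · intro h
    have h1 : (∏ j, (Polynomial.X - Polynomial.C (s j))).natDegree = r := by simp
    have h2 : ((splitPoly r a).map (algebraMap R S)).natDegree = r := by
      rw [(splitPoly_monic r a).natDegree_map, splitPoly_natDegree]
    refine Polynomial.ext fun k => ?_
    rcases lt_trichotomy k r with hk | hk | hk
    · have hk' : r - 1 - ((⟨r - 1 - k, by omega⟩ : Fin r) : ℕ) = k := by simp; omega
      rw [← hk', hco, h, Polynomial.coeff_map, splitPoly_coeff, map_mul, map_pow, map_neg, map_one]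
    · subst hk
      have e1 : (∏ j, (Polynomial.X - Polynomial.C (s j))).leadingCoeff = 1 :=
        Polynomial.monic_prod_of_monic _ _ fun j _ => Polynomial.monic_X_sub_C (s j)
      have e2 : ((splitPoly k a).map (algebraMap R S)).leadingCoeff = 1 := (splitPoly_monic k a).map _
      rw [Polynomial.leadingCoeff, h1] at e1
      rw [Polynomial.leadingCoeff, h2] at e2
      rw [e1, e2]
    · rw [Polynomial.coeff_eq_zero_of_natDegree_lt (by omega), Polynomial.coeff_eq_zero_of_natDegree_lt (by omega)]
  · intro h i
    have := hco i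
    rw [h, Polynomial.coeff_map, splitPoly_coeff, map_mul, map_pow, map_neg, map_one] at this
    exact ((IsUnit.neg isUnit_one).pow _).mul_left_cancel this.symm

theorem prod_root (r : ℕ) (a : Fin r → R) :
    ∏ j, (Polynomial.X - Polynomial.C (Ideal.Quotient.mk (splitIdeal r a) (X j))) =
      (splitPoly r a).map (algebraMap R (Split r a)) := by
  rw [← esymm_iff]
  intro i
  have : MvPolynomial.aeval (fun j => Ideal.Quotient.mk (splitIdeal r a) (X j)) = Ideal.Quotient.mkₐ R (splitIdeal r a) :=
    MvPolynomial.algHom_ext fun j => by simp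
  rw [this, Ideal.Quotient.mkₐ_eq_mk]
  exact Ideal.Quotient.eq.2 (Ideal.subset_span ⟨i, rfl⟩)

/-- Maps out of the splitting algebra. -/
noncomputable def lift {S : Type u} [CommRing S] [Algebra R S] (r : ℕ) (a : Fin r → R) (s : Fin r → S)
    (hs : ∏ j, (Polynomial.X - Polynomial.C (s j)) = (splitPoly r a).map (algebraMap R S)) :
    Split r a →ₐ[R] S :=
  Ideal.Quotient.liftₐ _ (MvPolynomial.aeval s) (by
    intro x hx
    induction hx using Submodule.span_induction with
    | mem y hy =>
      obtain ⟨i, rfl⟩ := hy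
      rw [map_sub, MvPolynomial.aeval_C, (esymm_iff r a s).2 hs i, sub_self]
    | zero => exact map_zero _
    | add y z _ _ hy hz => rw [map_add, hy, hz, add_zero]
    | smul c y _ hy => rw [smul_eq_mul, map_mul, hy, mul_zero])

@[simp] theorem lift_X {S : Type u} [CommRing S] [Algebra R S] (r : ℕ) (a : Fin r → R) (s : Fin r → S)
    (hs : ∏ j, (Polynomial.X - Polynomial.C (s j)) = (splitPoly r a).map (algebraMap R S)) (j : Fin r) :
    lift r a s hs (Ideal.Quotient.mk _ (X j)) = s j :=
  (MvPolynomial.aeval_X s j)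

theorem hom_ext {S : Type u} [CommRing S] [Algebra R S] {r : ℕ} {a : Fin r → R} {f g : Split r a →ₐ[R] S}
    (h : ∀ j, f (Ideal.Quotient.mk _ (X j)) = g (Ideal.Quotient.mk _ (X j))) : f = g :=
  Ideal.Quotient.algHom_ext R (MvPolynomial.algHom_ext h)

theorem exists_basis : ∀ (r : ℕ) (R : Type u) [CommRing R] (a : Fin r → R),
    Nonempty (Module.Basis (Fin r.factorial) R (Split r a)) := by
  intro r
  induction r with
  | zero =>
    intro R _ a
    have h : splitIdeal 0 a = ⊥ := by simp [splitIdeal]
    let e : Split 0 a ≃ₐ[R] R :=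
      ((Ideal.quotientEquivAlgOfEq R h).trans (AlgEquiv.quotientBot R _)).trans (isEmptyAlgEquiv R (Fin 0))
    exact ⟨((Module.Basis.singleton (Fin 1) R).reindex (finCongr Nat.factorial_zero.symm)).map e.toLinearEquiv.symm⟩
  | succ r ih =>
    intro R _ a
    rcases subsingleton_or_nontrivial R with hR | hR
    · exact ⟨Module.Basis.ofRepr (LinearEquiv.ofSubsingleton _ _)⟩
    set P := splitPoly (r + 1) a with hP
    have hPm : P.Monic := splitPoly_monic _ _
    let R₁ := AdjoinRoot P
    obtain ⟨Q, hQ⟩ := (Polynomial.dvd_iff_isRoot.2 (AdjoinRoot.isRoot_root P))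
    have hPd : P.natDegree = r + 1 := splitPoly_natDegree _ _
    haveI h₁ : Nontrivial R₁ := nontrivial_of_ne _ 0
      ((AdjoinRoot.powerBasis' hPm).basis.ne_zero ⟨0, by rw [AdjoinRoot.powerBasis'_dim]; omega⟩)
    have hQm : Q.Monic := (Polynomial.monic_X_sub_C _).of_mul_monic_left (hQ ▸ hPm.map _)
    have hQd : Q.natDegree = r := by
      have h2 := ((hPm.natDegree_map (AdjoinRoot.of P)).symm.trans (congrArg Polynomial.natDegree hQ)).trans
        ((Polynomial.monic_X_sub_C _).natDegree_mul hQm)
      rw [Polynomial.natDegree_X_sub_C] at h2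
      omega
    let b : Fin r → R₁ := fun i => (-1) ^ ((i : ℕ) + 1) * Q.coeff (r - 1 - (i : ℕ))
    have hQb : splitPoly r b = Q := by
      refine Polynomial.ext fun k => ?_
      rcases lt_trichotomy k r with hk | hk | hk
      · have hk' : r - 1 - ((⟨r - 1 - k, by omega⟩ : Fin r) : ℕ) = k := by simp; omega
        rw [← hk', splitPoly_coeff]
        simp only [b, ← mul_assoc, ← mul_pow]
        rw [show (-1 : R₁) * -1 = 1 by ring, one_pow, one_mul]
      · subst hk
        have e1 := (splitPoly_monic k b).coeff_natDegree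
        have e2 := hQm.coeff_natDegree
        rw [splitPoly_natDegree] at e1
        rw [hQd] at e2
        rw [e1, e2]
      · rw [Polynomial.coeff_eq_zero_of_natDegree_lt (by rw [splitPoly_natDegree]; exact hk),
          Polynomial.coeff_eq_zero_of_natDegree_lt (by omega)]
    let T := Split r b
    let A := Split (r + 1) a
    -- forward map
    have hfwd : ∏ j, (Polynomial.X - Polynomial.C ((Fin.cases (algebraMap R₁ T (AdjoinRoot.root P))
        (fun i => Ideal.Quotient.mk _ (X i)) : Fin (r + 1) → T) j)) = P.map (algebraMap R T) := by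
      rw [Fin.prod_univ_succ]
      simp only [Fin.cases_zero, Fin.cases_succ]
      rw [prod_root r b, hQb, IsScalarTower.algebraMap_eq R R₁ T, ← Polynomial.map_map, AdjoinRoot.algebraMap_eq, hQ,
        Polynomial.map_mul, Polynomial.map_sub, Polynomial.map_X, Polynomial.map_C]
    let F : A →ₐ[R] T := lift (r + 1) a _ hfwd
    -- backward map
    let x : Fin (r + 1) → A := fun j => Ideal.Quotient.mk _ (X j)
    have hroot : Polynomial.aeval (x 0) P = 0 := by
      rw [Polynomial.aeval_def, ← Polynomial.eval_map, hP, ← prod_root, Fin.prod_univ_succ, Polynomial.eval_mul]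
      simp [x]
    let g₁ : R₁ →ₐ[R] A := AdjoinRoot.liftAlgHom P (Algebra.ofId R A) (x 0) hroot
    letI : Algebra R₁ A := g₁.toRingHom.toAlgebra
    haveI : IsScalarTower R R₁ A := IsScalarTower.of_algebraMap_eq fun c => (g₁.commutes c).symm
    have hbwd : ∏ j : Fin r, (Polynomial.X - Polynomial.C (x j.succ)) = (splitPoly r b).map (algebraMap R₁ A) := by
      refine (Polynomial.monic_X_sub_C (x 0)).isRegular.left ?_
      show (Polynomial.X - Polynomial.C (x 0)) * _ = (Polynomial.X - Polynomial.C (x 0)) * _
      rw [← Fin.prod_univ_succ (f := fun j => Polynomial.X - Polynomial.C (x j))]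
      have : Polynomial.X - Polynomial.C (x 0) = (Polynomial.X - Polynomial.C (AdjoinRoot.root P)).map (algebraMap R₁ A) := by
        rw [Polynomial.map_sub, Polynomial.map_X, Polynomial.map_C]
        congr 2
        exact (AdjoinRoot.liftAlgHom_root _ _ _ hroot).symm
      rw [this, ← Polynomial.map_mul, hQb, ← hQ, prod_root, Polynomial.map_map,
        ← AdjoinRoot.algebraMap_eq, ← IsScalarTower.algebraMap_eq]
    let G : T →ₐ[R₁] A := lift r b (fun j => x j.succ) hbwd
    have hFG : F.comp (G.restrictScalars R) = AlgHom.id R T := by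
      have h0 : ∀ z : R₁, F (g₁ z) = algebraMap R₁ T z := by
        have : F.comp g₁ = IsScalarTower.toAlgHom R R₁ T := AdjoinRoot.algHom_ext (by
          show F (g₁ (AdjoinRoot.root P)) = algebraMap R₁ T (AdjoinRoot.root P)
          rw [show g₁ (AdjoinRoot.root P) = x 0 from AdjoinRoot.liftAlgHom_root _ _ _ hroot]
          exact (lift_X (r + 1) a _ hfwd 0).trans (Fin.cases_zero ..))
        exact fun z => AlgHom.congr_fun this z
      have key : (AlgHom.mk' (R := R₁) (F.toRingHom.comp G.toRingHom) fun c z => by
          show F (G (c • z)) = c • F (G z)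
          rw [map_smul, Algebra.smul_def, map_mul]
          exact (congrArg (· * _) (h0 c)).trans (Algebra.smul_def c (F (G z))).symm) = AlgHom.id R₁ T := hom_ext fun j => by
        show F (G (Ideal.Quotient.mk _ (X j))) = _
        rw [lift_X]
        exact (lift_X (r + 1) a _ hfwd j.succ).trans (Fin.cases_succ ..)
      exact AlgHom.ext fun z => AlgHom.congr_fun key z
    have hGF : (G.restrictScalars R).comp F = AlgHom.id R A := hom_ext fun j => by
      show G (F (x j)) = x j
      rw [show F (x j) = _ from lift_X (r + 1) a _ hfwd j]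
      induction j using Fin.cases with
      | zero =>
        rw [Fin.cases_zero, G.commutes]
        exact AdjoinRoot.liftAlgHom_root _ _ _ hroot
      | succ i => rw [Fin.cases_succ, lift_X]
    let e : A ≃ₐ[R] T := AlgEquiv.ofAlgHom F (G.restrictScalars R) hFG hGF
    obtain ⟨c⟩ := ih R₁ b
    let pb := AdjoinRoot.powerBasis' hPm
    have hdim : pb.dim = r + 1 := by simp [pb, hP, splitPoly_natDegree]
    refine ⟨(((pb.basis.smulTower c).map e.toLinearEquiv.symm).reindex ?_)⟩
    exact Fintype.equivFinOfCardEq (by rw [Fintype.card_prod, Fintype.card_fin, Fintype.card_fin, hdim, Nat.factorial_succ])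

end Groth.Agent.Split94
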